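import Groth.Agent.OrbitCot.Basic
import Groth.Agent.HopfPoint.Basic
import Groth.Agent.Comod.Transfer
import Groth.Prelude.Def_GLin
import Groth.Prelude.Def_ComodSub
import Mathlib.RingTheory.Spectrum.Prime.Chevalley
import Mathlib.RingTheory.Spectrum.Prime.Jacobson
import Mathlib.RingTheory.FiniteType

/-!
Orbits of unipotent affine groups on affine schemes are closed.

For a finitely generated coideal subalgebra `C` of `H` every orbit on `Spec C` is dense (fixed vectors),
so every rational point of `C` extends to `H`; Chevalley then gives surjectivity on spectra.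
-/

set_option autoImplicit false
set_option linter.unusedSectionVars false
set_option maxSynthPendingDepth 3

universe u

open TensorProduct Coalgebra

noncomputable section

namespace Groth.Agent.UnipOrbit

/-- The frontier of a constructible set has empty interior. -/
theorem interior_frontier_eq_empty {X : Type*} [TopologicalSpace X] {s : Set X}
    (hs : Topology.IsConstructible s) : interior (frontier s) = ∅ := by
  induction hs using Topology.IsConstructible.empty_union_induction with
  | open_retrocompact U hU _ =>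
    rw [← Set.subset_empty_iff]
    intro x hx
    obtain ⟨hxc, hxn⟩ := interior_subset hx
    rw [hU.interior_eq] at hxn
    obtain ⟨y, hy, hyU⟩ := mem_closure_iff.mp hxc _ isOpen_interior hx
    exact (interior_subset hy).2 (by rwa [hU.interior_eq])
  | union s _ t _ hs ht =>
    have h : frontier (s ∪ t) ⊆ frontier s ∪ frontier t :=
      (frontier_union_subset s t).trans (Set.union_subset_union Set.inter_subset_left Set.inter_subset_right)
    rw [← Set.subset_empty_iff]
    refine (interior_mono h).trans ?_
    rw [interior_union_isClosed_of_interior_empty isClosed_frontier ht, hs]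
  | compl s _ hs => rwa [frontier_compl]

/-- A constructible set of primes containing all maximal ideals of a Noetherian Jacobson ring is everything. -/
theorem eq_univ_of_isConstructible {R : Type u} [CommRing R] [IsNoetherianRing R] [IsJacobsonRing R]
    {s : Set (PrimeSpectrum R)} (hs : Topology.IsConstructible s)
    (hmax : ∀ p : PrimeSpectrum R, p.asIdeal.IsMaximal → p ∈ s) : s = Set.univ := by
  refine Set.eq_univ_of_forall fun P => ?_
  let f := PrimeSpectrum.comap (Ideal.Quotient.mk P.asIdeal)
  have hf : Topology.IsClosedEmbedding f :=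
    PrimeSpectrum.isClosedEmbedding_comap_of_surjective _ _ Ideal.Quotient.mk_surjective
  have hT : Topology.IsConstructible (f ⁻¹' s) :=
    hs.preimage_of_isClosedEmbedding hf (TopologicalSpace.NoetherianSpace.isCompact _)
  have hcl : closedPoints (PrimeSpectrum (R ⧸ P.asIdeal)) ⊆ f ⁻¹' s := fun q hq => by
    have := (PrimeSpectrum.isClosed_singleton_iff_isMaximal q).1 (mem_closedPoints_iff.1 hq)
    exact hmax _ (Ideal.comap_isMaximal_of_surjective _ Ideal.Quotient.mk_surjective)
  have hd : closure (f ⁻¹' s) = Set.univ := Set.univ_subset_iff.1 <| by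
    rw [← JacobsonSpace.closure_inter_closedPoints isClosed_univ, Set.univ_inter]
    exact closure_mono hcl
  have hne : (interior (f ⁻¹' s)).Nonempty := by
    rw [Set.nonempty_iff_ne_empty]
    intro h0
    have := interior_frontier_eq_empty hT
    rw [frontier, hd, h0, Set.sdiff_empty, interior_univ] at this
    exact Set.univ_nonempty.ne_empty this
  obtain ⟨q, hq⟩ := hne
  let η : PrimeSpectrum (R ⧸ P.asIdeal) := ⟨⊥, Ideal.isPrime_bot⟩
  have hη : η ∈ interior (f ⁻¹' s) :=
    ((PrimeSpectrum.le_iff_specializes η q).1 (show η.asIdeal ≤ q.asIdeal from bot_le)).mem_open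
      isOpen_interior hq
  have : f η = P := PrimeSpectrum.ext (by
    show Ideal.comap (Ideal.Quotient.mk P.asIdeal) ⊥ = P.asIdeal
    rw [← RingHom.ker_eq_comap_bot, Ideal.mk_ker])
  rw [← this]
  exact (interior_subset hη : η ∈ f ⁻¹' s)

variable {k : Type u} [Field k] {H : Type u} [CommRing H] [HopfAlgebra k H]

/-- The coideal condition on a subalgebra, as the subcomodule condition in the regular comodule. -/
abbrev IsCoideal (C : Subalgebra k H) : Prop :=
  HopfRep.IsSubcomod (k := k) (A := H) (Subalgebra.toSubmodule C)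

/-- A nonzero subcomodule of a unipotent Hopf algebra contains a nonzero constant. -/
theorem exists_one_mem (hU : HopfRep.IsUnipotent k H) (K : Submodule k H)
    (hK : HopfRep.IsSubcomod (k := k) (A := H) K) (hne : K ≠ ⊥) : (1 : H) ∈ K := by
  obtain ⟨v, hv, hv0⟩ := Submodule.exists_mem_ne_zero_of_ne_bot hne
  obtain ⟨S, hvS, hfin⟩ := Comod.exists_finite_subcomod (K := k) (C := H) v
  let T := S ⊓ Comod.subEquiv k H H ⟨K, hK⟩
  let W : Submodule k H := Comod.ofDSub T
  have hW : HopfRep.IsSubcomod (k := k) (A := H) W := Comod.isSubcomod_ofDSub T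
  have hWK : W ≤ K := fun w hw => hw.2
  haveI : Module.Finite k W := by
    haveI := hfin
    exact Submodule.finiteDimensional_of_le (S₂ := Comod.ofDSub S) fun w hw => hw.1
  haveI : Nontrivial W := ⟨⟨⟨v, hvS, hv⟩, 0, fun h => hv0 (congrArg Subtype.val h)⟩⟩
  letI cW : HopfRep.Comod k H W := ComodSub.Comod.restr inferInstance W hW
  obtain ⟨w, hw, hw0⟩ := Submodule.exists_mem_ne_zero_of_ne_bot (hU W inferInstance inferInstance)
  have h1 : comul (R := k) (w : H) = (w : H) ⊗ₜ[k] (1 : H) :=
    (ComodSub.restr_coact_coe inferInstance W hW w).symm.trans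
      (congrArg (W.subtype.rTensor H) (show HopfRep.Comod.coact (k := k) (A := H) w = w ⊗ₜ[k] (1 : H) from hw))
  have h2 : (1 : k) ⊗ₜ[k] (w : H) = counit (R := k) (w : H) ⊗ₜ[k] (1 : H) := by
    rw [← Coalgebra.rTensor_counit_comul (R := k) (w : H), h1, LinearMap.rTensor_tmul]
  have h3 : (w : H) = counit (R := k) (w : H) • (1 : H) := by
    simpa using congrArg (TensorProduct.lid k H) h2
  have hc : counit (R := k) (w : H) ≠ 0 := fun h => hw0 (Subtype.ext (by rw [h3, h, zero_smul]; rfl))
  have e : (counit (R := k) (w : H))⁻¹ • (w : H) = 1 := by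
    conv_lhs => arg 2; rw [h3]
    rw [smul_smul, inv_mul_cancel₀ hc, one_smul]
  exact e ▸ K.smul_mem (counit (R := k) (w : H))⁻¹ (hWK w.2)

variable (C : Subalgebra k H)

theorem map_val_apply (t : C ⊗[k] H) :
    Algebra.TensorProduct.map C.val (AlgHom.id k H) t = (Subalgebra.toSubmodule C).subtype.rTensor H t := by
  induction t using TensorProduct.induction_on with
  | zero => simp
  | tmul a b => rfl
  | add a b ha hb => rw [map_add, ha, hb]; exact (map_add _ _ _).symm

variable [IsAlgClosed k]

/-- Points of a finitely generated algebra over an algebraically closed field at maximal ideals. -/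
theorem exists_point_ker {B : Type u} [CommRing B] [Algebra k B] [Algebra.FiniteType k B]
    (M : Ideal B) [M.IsMaximal] : ∃ y : B →ₐ[k] k, RingHom.ker y = M := by
  letI : Field (B ⧸ M) := Ideal.Quotient.field M
  haveI : Algebra.FiniteType k (B ⧸ M) :=
    Algebra.FiniteType.of_surjective (Ideal.Quotient.mkₐ k M) Ideal.Quotient.mk_surjective
  haveI : Module.Finite k (B ⧸ M) := finite_of_finite_type_of_isJacobsonRing k _
  let e : k ≃ₐ[k] (B ⧸ M) := AlgEquiv.ofBijective (Algebra.ofId k _)
    IsAlgClosed.algebraMap_bijective_of_isIntegral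
  refine ⟨e.symm.toAlgHom.comp (Ideal.Quotient.mkₐ k M), Ideal.ext fun b => ?_⟩
  rw [RingHom.mem_ker]
  show e.symm (Ideal.Quotient.mk M b) = 0 ↔ _
  rw [EmbeddingLike.map_eq_zero_iff, Ideal.Quotient.eq_zero_iff_mem]

/-- Every rational point of a finitely generated coideal subalgebra extends. -/
theorem exists_extend_coideal (hU : HopfRep.IsUnipotent k H) (hfg : C.FG) (hC : IsCoideal C)
    (y : C →ₐ[k] k) : ∃ G : H →ₐ[k] k, G.comp C.val = y := by
  obtain ⟨t, ht⟩ := id hfg
  obtain ⟨D, htD, hDfg, hD⟩ := HopfRange.exists_fg_isSubHopf (k := k) t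
  have hCD : C ≤ D := by rw [← ht]; exact Algebra.adjoin_le htD
  haveI : Algebra.FiniteType k C := (Subalgebra.fg_iff_finiteType C).1 hfg
  haveI : Algebra.FiniteType k D := (Subalgebra.fg_iff_finiteType D).1 hDfg
  haveI : IsNoetherianRing C := Algebra.FiniteType.isNoetherianRing k C
  let ι : C →ₐ[k] D := Subalgebra.inclusion hCD
  have hι : Function.Injective ι := Subalgebra.inclusion_injective hCD
  letI : Algebra C D := ι.toRingHom.toAlgebra
  haveI : IsScalarTower k C D := IsScalarTower.of_algebraMap_eq fun x => (ι.commutes x).symm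
  haveI : Algebra.FiniteType C D := Algebra.FiniteType.of_restrictScalars_finiteType k C D
  have hfp : ι.toRingHom.FinitePresentation := by
    rw [← RingHom.algebraMap_toAlgebra ι.toRingHom, RingHom.finitePresentation_algebraMap]
    exact Algebra.FinitePresentation.of_finiteType.1 ‹_›
  let s := Set.range (PrimeSpectrum.comap ι.toRingHom)
  have hs : Topology.IsConstructible s := PrimeSpectrum.isConstructible_range_comap hfp
  have hd : closure s = Set.univ := by
    rw [PrimeSpectrum.closure_range_comap,
      (RingHom.injective_iff_ker_eq_bot ι.toRingHom).1 hι, Submodule.bot_coe,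
      PrimeSpectrum.zeroLocus_singleton_zero]
  haveI : Nontrivial H := (Bialgebra.counitAlgHom k H).toRingHom.domain_nontrivial
  obtain ⟨q, hq⟩ : (interior s).Nonempty := by
    rw [Set.nonempty_iff_ne_empty]
    intro h0
    have := interior_frontier_eq_empty hs
    rw [frontier, hd, h0, Set.sdiff_empty, interior_univ] at this
    exact Set.univ_nonempty.ne_empty this
  obtain ⟨_, ⟨f, rfl⟩, hqf, hfs⟩ :=
    PrimeSpectrum.isTopologicalBasis_basic_opens.exists_subset_of_mem_open hq isOpen_interior
  have hfnil : ¬ IsNilpotent f := fun hn =>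
    hqf (nilradical_le_prime q.asIdeal (mem_nilradical.2 hn))
  -- the action through the restricted comultiplication
  letI cC : HopfRep.Comod k H C := ComodSub.Comod.restr inferInstance (Subalgebra.toSubmodule C) hC
  have hcoe : ∀ c : C, (Subalgebra.toSubmodule C).subtype.rTensor H
      (HopfRep.Comod.coact (k := k) (A := H) c) = comul (R := k) (c : H) :=
    fun c => ComodSub.restr_coact_coe inferInstance (Subalgebra.toSubmodule C) hC c
  have hinj : Function.Injective (Algebra.TensorProduct.map C.val (AlgHom.id k H)) := by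
    intro a b h
    rw [map_val_apply, map_val_apply] at h
    exact Module.Flat.rTensor_preserves_injective_linearMap _ (Submodule.injective_subtype _) h
  haveI : GLin.IsCoactAlg k H C := by
    refine ⟨hinj ?_, fun a b => hinj ?_⟩
    · rw [map_one (Algebra.TensorProduct.map C.val (AlgHom.id k H)), map_val_apply, hcoe,
        OneMemClass.coe_one, Bialgebra.comul_one]
    · rw [map_mul (Algebra.TensorProduct.map C.val (AlgHom.id k H)), map_val_apply, map_val_apply,
        map_val_apply, hcoe, hcoe, hcoe, MulMemClass.coe_mul, Bialgebra.comul_mul]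
  let φ : C →ₐ[k] H := GLin.orbitHom k H y
  have hφ : Function.Injective φ := by
    by_contra hn
    let K : Submodule k H := (LinearMap.ker φ.toLinearMap).map C.val.toLinearMap
    have hK : HopfRep.IsSubcomod (k := k) (A := H) K := by
      rintro _ ⟨c, hc, rfl⟩
      have h0 : φ.toLinearMap.rTensor H (HopfRep.Comod.coact (k := k) (A := H) c) = 0 := by
        refine (OrbitCot.comul_orbitHom (k := k) (A := H) y c).symm.trans ?_
        rw [show GLin.orbitHom k H y c = 0 from hc, map_zero]
      obtain ⟨t, ht⟩ := (Module.Flat.rTensor_exact H (LinearMap.exact_subtype_ker_map φ.toLinearMap)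
        _).1 h0
      let j : LinearMap.ker φ.toLinearMap →ₗ[k] K :=
        { toFun := fun z => ⟨C.val (z : C), ⟨z, z.2, rfl⟩⟩
          map_add' := fun a b => rfl
          map_smul' := fun a b => rfl }
      refine ⟨j.rTensor H t, ?_⟩
      show _ = comul (R := k) (c : H)
      rw [← hcoe, ← ht, ← LinearMap.comp_apply, ← LinearMap.comp_apply, ← LinearMap.rTensor_comp,
        ← LinearMap.rTensor_comp]
      rfl
    have hne : K ≠ ⊥ := by
      intro h
      apply hn
      rw [injective_iff_map_eq_zero]
      intro a ha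
      have : C.val a ∈ K := ⟨a, ha, rfl⟩
      rw [h, Submodule.mem_bot] at this
      exact Subtype.ext this
    obtain ⟨c, hc, hc1⟩ := exists_one_mem hU K hK hne
    have : c = 1 := Subtype.ext hc1
    exact one_ne_zero (α := H) ((map_one φ).symm.trans (this ▸ hc))
  obtain ⟨h, hh⟩ := HopfPoint.exists_point_ne_zero (k := k) (a := φ f) (fun hn => hfnil ((IsNilpotent.map_iff hφ).1 hn))
  -- the translated point extends
  let y' : C →ₐ[k] k := h.comp φ
  haveI : (RingHom.ker y').IsPrime := RingHom.ker_isPrime _
  have hy' : (⟨RingHom.ker y', inferInstance⟩ : PrimeSpectrum C) ∈ s := interior_subset (hfs hh)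
  obtain ⟨Q, hQ⟩ := hy'
  obtain ⟨M, hM, hQM⟩ := Ideal.exists_le_maximal Q.asIdeal Q.2.ne_top
  haveI := hM
  obtain ⟨gD, hgD⟩ := exists_point_ker (k := k) M
  obtain ⟨g, hg⟩ := HopfPoint.exists_extend D hD gD
  have hgy : g.comp C.val = y' := by
    refine AlgHom.ext fun c => ?_
    have hker : c - algebraMap k C (y' c) ∈ RingHom.ker y' := by simp [RingHom.mem_ker]
    have hmem : ι (c - algebraMap k C (y' c)) ∈ M := hQM (by
      show c - algebraMap k C (y' c) ∈ (PrimeSpectrum.comap ι.toRingHom Q).asIdeal
      rw [hQ]; exact hker)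
    rw [← hgD, RingHom.mem_ker, map_sub, map_sub, AlgHom.commutes, AlgHom.commutes, sub_eq_zero] at hmem
    exact ((AlgHom.congr_fun hg (ι c)).trans hmem)
  -- translate back
  let hS : H →ₐ[k] k := h.comp (HopfAlgebra.antipodeAlgHom k H)
  let G : H →ₐ[k] k :=
    (Algebra.TensorProduct.lift g hS fun _ _ => Commute.all _ _).comp (Bialgebra.comulAlgHom k H)
  refine ⟨G, AlgHom.ext fun c => ?_⟩
  show Algebra.TensorProduct.lift g hS (fun _ _ => Commute.all _ _) (comul (R := k) (c : H)) = y c
  have e1 : ∀ t : C ⊗[k] H, Algebra.TensorProduct.lift g hS (fun _ _ => Commute.all _ _)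
      ((Subalgebra.toSubmodule C).subtype.rTensor H t) =
      h (LinearMap.mul' k H ((HopfAlgebra.antipode k).lTensor H (φ.toLinearMap.rTensor H t))) := fun t => by
    induction t using TensorProduct.induction_on with
    | zero => simp
    | tmul a b =>
      simp [hS]
      exact Or.inl (AlgHom.congr_fun hgy a)
    | add a b ha hb => simp only [map_add, ha, hb]
  rw [← hcoe, e1, show φ.toLinearMap.rTensor H (HopfRep.Comod.coact (k := k) (A := H) c) =
      comul (R := k) (φ c) from (OrbitCot.comul_orbitHom (k := k) (A := H) y c).symm,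
    HopfAlgebra.mul_antipode_lTensor_comul_apply, AlgHom.commutes]
  show counit (R := k) (φ c) = y c
  have e2 : ∀ t : C ⊗[k] H, counit (R := k) ((TensorProduct.lid k H) (y.toLinearMap.rTensor H t)) =
      y (TensorProduct.rid k C ((counit (R := k) (A := H)).lTensor C t)) := fun t => by
    induction t using TensorProduct.induction_on with
    | zero => simp
    | tmul a b => simp [mul_comm]
    | add a b ha hb => simp only [map_add, ha, hb]
  have e3 : φ c = TensorProduct.lid k H (y.toLinearMap.rTensor H (HopfRep.Comod.coact (k := k) (A := H) c)) := by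
    suffices ∀ t : C ⊗[k] H, (Algebra.TensorProduct.lid k H) (Algebra.TensorProduct.map y (AlgHom.id k H) t) =
        TensorProduct.lid k H (y.toLinearMap.rTensor H t) from this _
    intro t
    induction t using TensorProduct.induction_on with
    | zero => simp
    | tmul a b => simp
    | add a b ha hb => simp only [map_add, ha, hb]
  rw [e3, e2, show (counit (R := k) (A := H)).lTensor C (HopfRep.Comod.coact (k := k) (A := H) c) = c ⊗ₜ[k] 1 from
    LinearMap.congr_fun HopfRep.Comod.counit_comp c, TensorProduct.rid_tmul, one_smul]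

/-- A unipotent group is faithfully surjective over finitely generated coideal subalgebras. -/
theorem comap_surjective_coideal (hU : HopfRep.IsUnipotent k H) (hfg : C.FG) (hC : IsCoideal C) :
    Function.Surjective (PrimeSpectrum.comap C.val.toRingHom) := by
  obtain ⟨t, ht⟩ := id hfg
  obtain ⟨D, htD, hDfg, hD⟩ := HopfRange.exists_fg_isSubHopf (k := k) t
  have hCD : C ≤ D := by rw [← ht]; exact Algebra.adjoin_le htD
  haveI : Algebra.FiniteType k C := (Subalgebra.fg_iff_finiteType C).1 hfg
  haveI : Algebra.FiniteType k D := (Subalgebra.fg_iff_finiteType D).1 hDfg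
  haveI : IsNoetherianRing C := Algebra.FiniteType.isNoetherianRing k C
  haveI : IsJacobsonRing C := isJacobsonRing_of_finiteType (A := k)
  let ι : C →ₐ[k] D := Subalgebra.inclusion hCD
  letI : Algebra C D := ι.toRingHom.toAlgebra
  haveI : IsScalarTower k C D := IsScalarTower.of_algebraMap_eq fun x => (ι.commutes x).symm
  haveI : Algebra.FiniteType C D := Algebra.FiniteType.of_restrictScalars_finiteType k C D
  have hfp : ι.toRingHom.FinitePresentation := by
    rw [← RingHom.algebraMap_toAlgebra ι.toRingHom, RingHom.finitePresentation_algebraMap]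
    exact Algebra.FinitePresentation.of_finiteType.1 ‹_›
  have huniv := eq_univ_of_isConstructible (PrimeSpectrum.isConstructible_range_comap hfp) fun p hp => by
    haveI := hp
    obtain ⟨y, hy⟩ := exists_point_ker (k := k) p.asIdeal
    obtain ⟨G, hG⟩ := exists_extend_coideal C hU hfg hC y
    haveI : (RingHom.ker (G.comp D.val)).IsPrime := RingHom.ker_isPrime _
    refine ⟨⟨RingHom.ker (G.comp D.val), inferInstance⟩, PrimeSpectrum.ext (Ideal.ext fun c => ?_)⟩
    rw [← hy, ← hG]
    rfl
  intro p
  obtain ⟨q, hq⟩ : p ∈ Set.range (PrimeSpectrum.comap ι.toRingHom) := huniv ▸ Set.mem_univ p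
  haveI := FlatSub.faithfullyFlat hD
  obtain ⟨Q, hQ⟩ := PrimeSpectrum.comap_surjective_of_faithfullyFlat (A := D) (B := H) q
  exact ⟨Q, by rw [← hq, ← hQ]; rfl⟩

variable {A : Type u} [CommRing A] [Algebra k A] [HopfRep.Comod k H A] [GLin.IsCoactAlg k H A]

/-- **Orbits of unipotent groups on affine schemes are closed.** -/
theorem isClosedOrbit (hU : HopfRep.IsUnipotent k H) (x : A →ₐ[k] k) : GLin.IsClosedOrbit k H x := by
  classical
  set φ := GLin.orbitHom k H x with hφdef
  show IsClosed (Set.range (PrimeSpectrum.comap φ.toRingHom))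
  suffices h : Set.range (PrimeSpectrum.comap φ.toRingHom) =
      PrimeSpectrum.zeroLocus (RingHom.ker φ.toRingHom : Set A) by
    rw [h]; exact PrimeSpectrum.isClosed_zeroLocus _
  refine subset_antisymm ?_ fun p hp => ?_
  · rintro _ ⟨q, rfl⟩ a ha
    show φ.toRingHom a ∈ q.asIdeal
    rw [show φ.toRingHom a = 0 from ha]
    exact zero_mem _
  suffices h : (p.asIdeal.map φ.toRingHom).comap φ.toRingHom = p.asIdeal by
    obtain ⟨q, hq, hqp⟩ := (Ideal.comap_map_eq_self_iff_of_isPrime _).1 h
    exact ⟨⟨q, hq⟩, PrimeSpectrum.ext hqp⟩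
  refine le_antisymm (fun r hr => ?_) Ideal.le_comap_map
  obtain ⟨F, hF, hrF⟩ : ∃ F : Finset A, (F : Set A) ⊆ p.asIdeal ∧ φ r ∈ Ideal.span (φ '' (F : Set A)) := by
    obtain ⟨T, hT, hrT⟩ := Submodule.mem_span_finite_of_mem_span (show φ r ∈ Ideal.span (φ '' (p.asIdeal : Set A)) from hr)
    choose! a ha hat using fun z (hz : z ∈ T) => hT hz
    refine ⟨T.image a, fun z hz => ?_, ?_⟩
    · obtain ⟨w, hw, rfl⟩ := Finset.mem_image.1 hz
      exact ha w hw
    · refine Submodule.span_mono ?_ hrT
      intro z hz
      exact ⟨a z, Finset.mem_image_of_mem a hz, hat z hz⟩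
  obtain ⟨S, hS, hfin⟩ := Comod.exists_finite_subcomod_finset (K := k) (C := H) (insert r F)
  let W : Submodule k A := Comod.ofDSub S
  obtain ⟨w, hw⟩ := (Submodule.fg_iff_finiteDimensional W).2 hfin
  let R0 : Subalgebra k A := Algebra.adjoin k (w : Set A)
  let C0 : Subalgebra k H := R0.map φ
  have hC0fg : C0.FG := Subalgebra.FG.map φ ⟨w, rfl⟩
  have hWR : W ≤ Subalgebra.toSubmodule R0 := by rw [← hw, Submodule.span_le]; exact Algebra.subset_adjoin
  have hsub : IsCoideal C0 := by
    rintro _ ⟨a, ha, rfl⟩
    have : R0 ≤ (Algebra.TensorProduct.map C0.val (AlgHom.id k H)).range.comap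
        ((Bialgebra.comulAlgHom k H).comp φ) := Algebra.adjoin_le fun z hz => by
      have hzW : z ∈ W := hw ▸ Submodule.subset_span hz
      obtain ⟨t, ht⟩ := Comod.isSubcomod_ofDSub S z hzW
      let j : W →ₗ[k] C0 :=
        { toFun := fun v => ⟨φ (v : A), ⟨v, hWR v.2, rfl⟩⟩
          map_add' := fun a b => Subtype.ext (map_add φ (a : A) b)
          map_smul' := fun c a => Subtype.ext (map_smul φ c (a : A)) }
      refine ⟨j.rTensor H t, ?_⟩
      show Algebra.TensorProduct.map C0.val (AlgHom.id k H) (j.rTensor H t) = comul (R := k) (φ z)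
      rw [map_val_apply, hφdef, OrbitCot.comul_orbitHom, GLin.coactAlgHom_apply, ← ht,
        ← LinearMap.comp_apply, ← LinearMap.comp_apply, ← LinearMap.rTensor_comp, ← LinearMap.rTensor_comp]
      rfl
    obtain ⟨t, ht⟩ := this ha
    exact ⟨t, (map_val_apply C0 t).symm.trans ht⟩
  let ψ : R0 →ₐ[k] C0 := (φ.comp R0.val).codRestrict C0 fun a => ⟨a, a.2, rfl⟩
  have hψ : Function.Surjective ψ := by
    rintro ⟨_, a, ha, rfl⟩
    exact ⟨⟨a, ha⟩, rfl⟩
  let P0 : Ideal R0 := p.asIdeal.comap R0.val
  haveI : P0.IsPrime := Ideal.IsPrime.comap _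
  have hker : RingHom.ker ψ ≤ P0 := fun a ha => hp (congrArg Subtype.val (RingHom.mem_ker.1 ha))
  haveI : (P0.map ψ).IsPrime := Ideal.map_isPrime_of_surjective hψ hker
  obtain ⟨Q, hQ⟩ := comap_surjective_coideal C0 hU hC0fg hsub ⟨P0.map ψ, inferInstance⟩
  have hQ' : ∀ a : R0, φ (a : A) ∈ Q.asIdeal ↔ a ∈ P0 := fun a => by
    have : φ (a : A) ∈ Q.asIdeal ↔ ψ a ∈ P0.map ψ := by
      rw [show (P0.map ψ) = (PrimeSpectrum.comap C0.val.toRingHom Q).asIdeal from (congrArg PrimeSpectrum.asIdeal hQ).symm]
      rfl
    rw [this, ← Ideal.mem_comap, Ideal.comap_map_of_surjective _ hψ, sup_eq_left.2]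
    exact hker
  have hmem : φ r ∈ Q.asIdeal := by
    refine Ideal.span_le.2 ?_ hrF
    rintro _ ⟨a, ha, rfl⟩
    exact (hQ' ⟨a, hWR (hS a (Finset.mem_insert_of_mem ha))⟩).2 (hF ha)
  exact (hQ' ⟨r, hWR (hS r (Finset.mem_insert_self r F))⟩).1 hmem

end Groth.Agent.UnipOrbit
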